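import Mathlib
import Groth.Prelude.Def_FDesc
import Groth.Prelude.Def_ClSub2

/-!
# The vanishing ideal of the closure of a point on an affine open (helper5)
-/

set_option autoImplicit false
universe u
open CategoryTheory CategoryTheory.Limits AlgebraicGeometry TopologicalSpace IsLocalRing

namespace Groth.Agent.Lib.Helper5.AssMono

variable {X : Scheme.{u}}

/-- the closed subset `closure {x}` -/
abbrev clPt (x : X) : Closeds X := ⟨closure {x}, isClosed_closure⟩

theorem vanishingIdeal_ideal_eq (x : X) {V : X.Opens} (hV : IsAffineOpen V) (hx : x ∈ V) :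
    (Scheme.IdealSheafData.vanishingIdeal (clPt x)).ideal ⟨V, hV⟩ =
      (hV.primeIdealOf ⟨x, hx⟩).asIdeal := by
  rw [Scheme.IdealSheafData.vanishingIdeal_ideal]
  have h1 : (hV.fromSpec ⁻¹' ((clPt x : Closeds X) : Set X)) =
      closure {hV.primeIdealOf ⟨x, hx⟩} := by
    change hV.fromSpec ⁻¹' (closure {x}) = _
    rw [hV.fromSpec.isOpenEmbedding.isOpenMap.preimage_closure_eq_closure_preimage
      hV.fromSpec.continuous]
    congr 1
    ext p
    simp only [Set.mem_preimage, Set.mem_singleton_iff]
    constructor
    · intro hp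
      apply hV.fromSpec.isOpenEmbedding.injective
      rw [hp, hV.fromSpec_primeIdealOf]
    · rintro rfl
      exact hV.fromSpec_primeIdealOf ⟨x, hx⟩
  exact (congrArg PrimeSpectrum.vanishingIdeal h1).trans
    ((PrimeSpectrum.vanishingIdeal_closure _).trans (PrimeSpectrum.vanishingIdeal_singleton _))

end Groth.Agent.Lib.Helper5.AssMono
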