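import Mathlib
import Groth.Prelude.Def_FDesc
import Groth.Prelude.Def_ClSub2
import Groth.Agent.Lib.Helper5.AssMono.Ideal
import Groth.Agent.Lib.Helper1.Dv21
import Groth.Agent.Lib.Helper1.IdealModL

/-!
# Sections of `O_Z` (for `Z` the closure of a point) over an affine open (helper5)
-/

set_option autoImplicit false
universe u
open CategoryTheory CategoryTheory.Limits AlgebraicGeometry TopologicalSpace IsLocalRing

namespace Groth.Agent.Lib.Helper5.AssMono

open Groth.Agent.Helper1 Groth.Agent.Helper1.Dv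

variable {X : Scheme.{u}}

/-- the ideal sheaf of the closure of a point -/
noncomputable abbrev idl (x : X) : X.IdealSheafData :=
  Scheme.IdealSheafData.vanishingIdeal (clPt x)

/-- `O_Z` as an `O_X`-module -/
noncomputable abbrev OZ (x : X) : X.Modules := ClSub.quotMod (idl x)

variable (x : X) {V : X.Opens} (hV : IsAffineOpen V) (hx : x ∈ V)

/-- `a ↦ a • 1` -/
noncomputable def oneMap (V : X.Opens) : Γ(X, V) →ₗ[Γ(X, V)] Γ(OZ x, V) :=
  LinearMap.toSpanSingleton _ _ (oneSec (idl x).subschemeι V)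

theorem oneMap_apply (a : Γ(X, V)) :
    oneMap x V a = (show Γ(OZ x, V) from
      (((idl x).subschemeι.app V).hom a : Γ((idl x).subscheme, (idl x).subschemeι ⁻¹ᵁ V))) := by
  change a • oneSec (idl x).subschemeι V = _
  rw [smul_oneSec]

include hV in
theorem oneMap_surjective : Function.Surjective (oneMap x V) := by
  intro t
  obtain ⟨a, ha⟩ := Scheme.Hom.app_surjective (idl x).subschemeι V hV
    (show Γ((idl x).subscheme, (idl x).subschemeι ⁻¹ᵁ V) from t)
  refine ⟨a, ?_⟩
  rw [oneMap_apply]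
  exact ha

theorem ker_oneMap : LinearMap.ker (oneMap x V) = (hV.primeIdealOf ⟨x, hx⟩).asIdeal := by
  rw [← vanishingIdeal_ideal_eq x hV hx, ← (idl x).ker_subschemeι_app ⟨V, hV⟩]
  ext a
  rw [LinearMap.mem_ker, oneMap_apply, RingHom.mem_ker]
  rfl

/-- the sections of `O_Z` over an affine open containing `x` -/
noncomputable def quotEquiv :
    (Γ(X, V) ⧸ (hV.primeIdealOf ⟨x, hx⟩).asIdeal) ≃ₗ[Γ(X, V)] Γ(OZ x, V) :=
  (Submodule.quotEquivOfEq _ _ (ker_oneMap x hV hx).symm) ≪≫ₗ
    (oneMap x V).quotKerEquivOfSurjective (oneMap_surjective x hV)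

end Groth.Agent.Lib.Helper5.AssMono
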