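import Mathlib
import Groth.Agent.Lib.Helper5.Stalk.FlatPull

/-!
# Transporting monomorphisms of restricted modules along an isomorphism of schemes (helper5)
-/

set_option autoImplicit false
universe u
open CategoryTheory CategoryTheory.Limits AlgebraicGeometry TopologicalSpace

namespace Groth.Agent.Lib.Helper5.AssMono

open Groth.Agent.Lib.Helper5.StalkAdj

variable {Y Y' X : Scheme.{u}}

/-- restriction along an isomorphism followed by restriction along its inverse -/
noncomputable def resIsoId (e : Y' ≅ Y) : Scheme.Modules.restrictFunctor e.hom ⋙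
    Scheme.Modules.restrictFunctor e.inv ≅ 𝟭 Y.Modules :=
  (Scheme.Modules.restrictFunctorComp e.inv e.hom).symm ≪≫
    Scheme.Modules.restrictFunctorCongr e.inv_hom_id ≪≫ Scheme.Modules.restrictFunctorId

/-- a monomorphism between the restrictions along `e.hom ≫ j` descends to a monomorphism between
the restrictions along `j` -/
theorem exists_mono_of_restrict_iso (e : Y' ≅ Y) (j : Y ⟶ X) [IsOpenImmersion j]
    (G F : X.Modules) (μ : G.restrict (e.hom ≫ j) ⟶ F.restrict (e.hom ≫ j)) [Mono μ] :
    ∃ φ : G.restrict j ⟶ F.restrict j, Mono φ := by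
  let c := Scheme.Modules.restrictFunctorComp e.hom j
  let μ' : (Scheme.Modules.restrictFunctor e.hom).obj (G.restrict j) ⟶
      (Scheme.Modules.restrictFunctor e.hom).obj (F.restrict j) :=
    c.inv.app G ≫ μ ≫ c.hom.app F
  haveI : Mono μ' := by
    haveI : Mono (μ ≫ c.hom.app F) := mono_comp _ _
    exact mono_comp _ _
  haveI : Mono ((Scheme.Modules.restrictFunctor e.inv).map μ') := inferInstance
  let θ := resIsoId e
  refine ⟨θ.inv.app (G.restrict j) ≫ (Scheme.Modules.restrictFunctor e.inv).map μ' ≫
    θ.hom.app (F.restrict j), ?_⟩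
  haveI : Mono ((Scheme.Modules.restrictFunctor e.inv).map μ' ≫ θ.hom.app (F.restrict j)) :=
    mono_comp _ _
  exact mono_comp _ _

/-- variant with a propositional factorization -/
theorem exists_mono_of_restrict_iso' (e : Y' ≅ Y) (j : Y ⟶ X) [IsOpenImmersion j]
    (j' : Y' ⟶ X) [IsOpenImmersion j'] (hj : j' = e.hom ≫ j)
    (G F : X.Modules) (μ : G.restrict j' ⟶ F.restrict j') [Mono μ] :
    ∃ φ : G.restrict j ⟶ F.restrict j, Mono φ := by
  subst hj
  exact exists_mono_of_restrict_iso e j G F μ

/-- a monomorphism between restrictions gives a monomorphism between pullbacks -/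
theorem exists_mono_pullback_of_restrict (j : Y ⟶ X) [IsOpenImmersion j] (G F : X.Modules)
    (φ : G.restrict j ⟶ F.restrict j) [Mono φ] :
    ∃ ψ : (Scheme.Modules.pullback j).obj G ⟶ (Scheme.Modules.pullback j).obj F, Mono ψ := by
  let c := Scheme.Modules.restrictFunctorIsoPullback j
  refine ⟨c.inv.app G ≫ φ ≫ c.hom.app F, ?_⟩
  haveI : Mono (φ ≫ c.hom.app F) := mono_comp _ _
  exact mono_comp _ _

/-- and conversely -/
theorem exists_mono_restrict_of_pullback (j : Y ⟶ X) [IsOpenImmersion j] (G F : X.Modules)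
    (ψ : (Scheme.Modules.pullback j).obj G ⟶ (Scheme.Modules.pullback j).obj F) [Mono ψ] :
    ∃ φ : G.restrict j ⟶ F.restrict j, Mono φ := by
  let c := Scheme.Modules.restrictFunctorIsoPullback j
  refine ⟨c.hom.app G ≫ ψ ≫ c.inv.app F, ?_⟩
  haveI : Mono (ψ ≫ c.inv.app F) := mono_comp _ _
  exact mono_comp _ _

end Groth.Agent.Lib.Helper5.AssMono
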