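import Mathlib
import Groth.Prelude.Def_FDesc
import Groth.Prelude.Def_ClSub2
import Groth.Agent.Lib.Helper5.AssMono.Sec
import Groth.Agent.Lib.Helper5.AssMono.Transport
import Groth.Agent.Lib.Helper5.QC.TildeExact
import Groth.Agent.Lib.Helper4.CohSk1
import Groth.Agent.Lib.Helper4.CohHartogs1
import Groth.Agent.Lib.Lead.TilT5
import Groth.Agent.Lib.Helper1.FtLocal
import Groth.Agent.Lib.Helper1.CohACC

/-!
# Associated points and monomorphisms from `O_Z` (helper5)
-/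

set_option autoImplicit false
set_option backward.isDefEq.respectTransparency.types false
universe u
open CategoryTheory CategoryTheory.Limits AlgebraicGeometry TopologicalSpace IsLocalRing

namespace Groth.Agent.Lib.Helper5.AssMono

open Groth.Agent.Helper1 Groth.Agent.Helper1.Dv Groth.Agent.Lead.TilT
  Groth.Agent.Lib.Helper5.QC Groth.Agent.Lib.Helper4.CohHartogs1

variable {X : Scheme.{u}} [IsLocallyNoetherian X] (F : X.Modules) [F.IsQuasicoherent] (x : X)

/-- an associated point has a neighbourhood with a monomorphism `O_Z|_U ⟶ F|_U` -/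
theorem exists_mono_of_isAssPoint (h : Curv2.IsAssPoint F x) :
    ∃ U : X.Opens, x ∈ U ∧ ∃ φ : (OZ x).restrict U.ι ⟶ F.restrict U.ι, Mono φ := by
  obtain ⟨V, hV, hx⟩ : ∃ V : X.Opens, IsAffineOpen V ∧ x ∈ V := by
    obtain ⟨_, ⟨V, hV, rfl⟩, hx, -⟩ := X.isBasis_affineOpens.exists_subset_of_mem_open
      (Set.mem_univ x) isOpen_univ
    exact ⟨V, hV, hx⟩
  haveI : IsNoetherianRing Γ(X, V) := IsLocallyNoetherian.component_noetherian ⟨V, hV⟩
  have h1 := (Groth.Agent.Lib.Helper4.CohSk1.ass_iff F hV ⟨x, hx⟩).1 h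
  obtain ⟨-, f, hf⟩ := (isAssociatedPrime_iff_exists_injective_linearMap _ _).1 h1
  refine ⟨V, hx, ?_⟩
  -- the map on sections
  let lam : Γ(OZ x, V) →ₗ[Γ(X, V)] Γ(F, V) := f ∘ₗ (quotEquiv x hV hx).symm.toLinearMap
  have hlam : Function.Injective lam := hf.comp (quotEquiv x hV hx).symm.injective
  let μ₀ : chartMod (OZ x) hV.fromSpec ⟶ chartMod F hV.fromSpec :=
    ModuleCat.ofHom ((secEquiv F hV).toLinearMap ∘ₗ lam ∘ₗ (secEquiv (OZ x) hV).symm.toLinearMap)
  haveI : Mono μ₀ := by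
    rw [ModuleCat.mono_iff_injective]
    exact (secEquiv F hV).injective.comp (hlam.comp (secEquiv (OZ x) hV).symm.injective)
  haveI : Mono (tilde.map μ₀) := mono_tilde_map μ₀
  let μ : (OZ x).restrict hV.fromSpec ⟶ F.restrict hV.fromSpec :=
    (chartIso (OZ x) hV.fromSpec).hom ≫ tilde.map μ₀ ≫ (chartIso F hV.fromSpec).inv
  haveI : Mono μ := by
    haveI : Mono (tilde.map μ₀ ≫ (chartIso F hV.fromSpec).inv) := mono_comp _ _
    exact mono_comp _ _
  exact exists_mono_of_restrict_iso' hV.isoSpec.symm V.ι hV.fromSpec rfl (OZ x) F μ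

/-- the scalar multiplication on a restriction -/
theorem restrict_smul (M : X.Modules) (U : X.Opens) (W : (↑U : Scheme.{u}).Opens)
    (r : Γ((↑U : Scheme.{u}), W)) (m : Γ(M.restrict U.ι, W)) :
    r • m = (show Γ(M.restrict U.ι, W) from
      ((U.ι.appIso W).inv r : Γ(X, U.ι ''ᵁ W)) • (show Γ(M, U.ι ''ᵁ W) from m)) := rfl

/-- a monomorphism `O_Z|_U ⟶ F|_U` on a neighbourhood of `x` makes `x` an associated point -/
theorem isAssPoint_of_mono (U : X.Opens) (hxU : x ∈ U)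
    (φ : (OZ x).restrict U.ι ⟶ F.restrict U.ι) [Mono φ] : Curv2.IsAssPoint F x := by
  obtain ⟨W, hW, hxW⟩ : ∃ W : (↑U : Scheme.{u}).Opens, IsAffineOpen W ∧ (⟨x, hxU⟩ : U) ∈ W := by
    obtain ⟨_, ⟨W, hW, rfl⟩, hx, -⟩ := (↑U : Scheme.{u}).isBasis_affineOpens.exists_subset_of_mem_open
      (Set.mem_univ (⟨x, hxU⟩ : U)) isOpen_univ
    exact ⟨W, hW, hx⟩
  obtain ⟨V, hVdef⟩ : ∃ V : X.Opens, V = U.ι ''ᵁ W := ⟨_, rfl⟩
  have hV : IsAffineOpen V := hVdef ▸ hW.image_of_isOpenImmersion U.ι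
  have hx : x ∈ V := hVdef ▸ ⟨⟨x, hxU⟩, hxW, rfl⟩
  haveI : IsNoetherianRing Γ(X, V) := IsLocallyNoetherian.component_noetherian ⟨V, hV⟩
  refine (Groth.Agent.Lib.Helper4.CohSk1.ass_iff F hV ⟨x, hx⟩).2 ?_
  refine (isAssociatedPrime_iff_exists_injective_linearMap _ _).2 ⟨inferInstance, ?_⟩
  subst hVdef
  let ψ : Γ(OZ x, U.ι ''ᵁ W) →ₗ[Γ(X, U.ι ''ᵁ W)] Γ(F, U.ι ''ᵁ W) :=
    { toFun := fun t => φ.app W t
      map_add' := fun a b => map_add _ a b
      map_smul' := fun a t => by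
        have ha : (U.ι.appIso W).inv ((U.ι.appIso W).hom a) = a :=
          Iso.hom_inv_id_apply (U.ι.appIso W) a
        have h1 := Scheme.Modules.Hom.app_smul φ ((U.ι.appIso W).hom a)
          (show Γ((OZ x).restrict U.ι, W) from t)
        rw [restrict_smul, restrict_smul, ha] at h1
        exact h1 }
  have hψ : Function.Injective ψ := FtLocal.app_injective_of_mono φ W
  exact ⟨ψ ∘ₗ (quotEquiv x hV hx).toLinearMap, hψ.comp (quotEquiv x hV hx).injective⟩

end Groth.Agent.Lib.Helper5.AssMono
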